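import Groth.Agent.BCLib.FlatBase
import Groth.Agent.AmpleLib.Pullback
import Groth.Agent.ModifDimLib.Main
import Groth.Agent.ModPairLib.Pair
import Groth.Agent.RatCplLib.Integral
import Groth.Agent.ASp.BiratEtale
import Groth.Agent.S7303

/-!
# Vanishing of `H¹(O)` of a modification of a surface with rational singularities

Cohomology vanishes if it does after localization at every maximal ideal of an affine base; a normal
modification of a normal surface all of whose points are rational has no first cohomology.
-/

set_option autoImplicit false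
set_option backward.isDefEq.respectTransparency false
set_option backward.defeqAttrib.useBackward true
set_option linter.style.haveILetI false
set_option maxHeartbeats 1000000

universe u

open CategoryTheory CategoryTheory.Limits AlgebraicGeometry TopologicalSpace Opposite TensorProduct
open Groth.Agent.CohBase Groth.Agent.ProjCoh Groth.Agent.FormalLib Groth.Agent.BCLib

noncomputable section

namespace Groth.Agent.TraceH1Lib

/-- An element killed near every maximal ideal is zero. -/
theorem eq_zero_of_localization₀ {R : Type u} [CommRing R] {Q : Type u} [AddCommGroup Q] [Module R Q] (q : Q)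
    (h : ∀ (m : Ideal R) [m.IsMaximal], ∃ s : m.primeCompl, s • q = 0) : q = 0 := by
  by_contra hq
  let J : Ideal R := LinearMap.ker (LinearMap.toSpanSingleton R Q q)
  obtain ⟨m, hm, hJm⟩ := Ideal.exists_le_maximal J fun hJ => hq (by
    have := hJ.ge (Submodule.mem_top (x := (1 : R)))
    simpa [J] using this)
  obtain ⟨s, hs⟩ := h m
  exact s.2 (hJm (by simpa [J, Submonoid.smul_def] using hs))

/-- A cocycle whose class dies after a localization is killed by a denominator modulo coboundaries. -/
theorem exists_smul_eq_zero {ι : Type u} [Finite ι] {R R' : CommRingCat.{u}} {X X' : Scheme.{u}}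
    [X.Over (Spec (CommRingCat.of R))] [X'.Over (Spec (CommRingCat.of R'))] {g' : X' ⟶ X} {φ : R ⟶ R'}
    (S : Submonoid R) (hloc : S.IsLocalizationMap φ.hom)
    (hc : IsPullback g' (str R' X') (str R X) (Spec.map φ)) (V : ι → X.Opens) (hcov : (⊤ : X.Opens) ≤ iSup V)
    (haff : ∀ (m : ℕ) (i : Fin (m + 1) → ι), IsAffineOpen (inter V i)) [IsSeparated (str R X)] (p : ℕ)
    (hsub : Subsingleton (Coh.HH X' (Coh.structureModule X') p))
    (z : (cechCx R V (Coh.structureModule X)).X p) (hz : (cechCx R V (Coh.structureModule X)).d p z = 0) :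
    ∃ s : S, s • (Submodule.Quotient.mk z :
      (cechCx R V (Coh.structureModule X)).X p ⧸ (cechCx R V (Coh.structureModule X)).bd p) = 0 := by
  let K := cechCx R V (Coh.structureModule X)
  obtain ⟨ev, -, hk⟩ := exists_evBC hc V (Coh.structureModule X) hcov haff (CxHom.idHom K)
    (fun M _ _ => CxHom.idHom_bij K M) p
  letI := φ.hom.toAlgebra
  haveI : IsLocalization S R' := ⟨hloc⟩
  have hzB : (K.d p).baseChange R' ((1 : R') ⊗ₜ[R] z) = 0 := by
    rw [LinearMap.baseChange_tmul, hz, TensorProduct.tmul_zero]
  haveI : Subsingleton (Coh.HH X' ((Scheme.Modules.pullback g').obj (Coh.structureModule X)) p) :=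
    haveI := hsub
    (hhEquivL (A := R') (AmpleLib.pullO _) p).toEquiv.subsingleton
  have h0 := (K.baseChange_mkQ_eq_zero_iff R' p _).2 ((hk ⟨_, LinearMap.mem_ker.2 hzB⟩).1 (Subsingleton.elim _ _))
  rw [LinearMap.baseChange_tmul] at h0
  exact (IsLocalizedModule.eq_zero_iff S (TensorProduct.mk R R' (K.X p ⧸ K.bd p) 1)).1 h0

/-- Cohomology of the structure sheaf vanishes if it does over every local ring of the affine base at
a maximal ideal. -/
theorem subsingleton_of_local {R : CommRingCat.{u}} {X : Scheme.{u}} [X.Over (Spec (CommRingCat.of R))]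
    [IsSeparated (str R X)] [QuasiCompact (str R X)] (p : ℕ)
    (h : ∀ (m : Ideal R) [m.IsMaximal], Subsingleton
      (Coh.HH (pullback (str R X) (Spec.map (CommRingCat.ofHom (algebraMap R (Localization.AtPrime m)))))
        (Coh.structureModule _) p)) :
    Subsingleton (Coh.HH X (Coh.structureModule X) p) := by
  let G := Coh.structureModule X
  obtain ⟨ι, hι, V, hcov, haff⟩ := exists_affine_cover (str R X)
  let K := cechCx R V G
  -- a cocycle is locally a coboundary
  have key : ∀ z : K.X p, K.d p z = 0 → z ∈ K.bd p := by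
    intro z hz
    refine (Submodule.Quotient.mk_eq_zero _).1 ?_
    refine eq_zero_of_localization₀ (R := R) (Submodule.Quotient.mk z) fun m hm => ?_
    let φ : R ⟶ CommRingCat.of (Localization.AtPrime m) := CommRingCat.ofHom (algebraMap R (Localization.AtPrime m))
    letI : (pullback (str R X) (Spec.map φ)).Over (Spec (CommRingCat.of (CommRingCat.of (Localization.AtPrime m)))) :=
      ⟨pullback.snd _ _⟩
    exact exists_smul_eq_zero (φ := φ) m.primeCompl
      ((isLocalization_iff_isLocalizationMap (M := m.primeCompl) (S := Localization.AtPrime m)).1 inferInstance)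
      (g' := pullback.fst _ _) (IsPullback.of_hasPullback _ _) V hcov haff p (h m) z hz
  have hid : IsPullback (𝟙 X) (str R X) (str R X) (Spec.map (𝟙 R)) := by
    erw [Spec.map_id]
    exact IsPullback.id_horiz _
  obtain ⟨ev, hs, hk⟩ := exists_evBC hid V G hcov haff (CxHom.idHom K) (fun M _ _ => CxHom.idHom_bij K M) p
  haveI : Subsingleton (Coh.HH X ((Scheme.Modules.pullback (𝟙 X)).obj G) p) := by
    refine subsingleton_of_forall_eq 0 fun y => ?_
    obtain ⟨w, rfl⟩ := hs y
    rw [hk]
    obtain ⟨z, hz⟩ := (TensorProduct.lid R (K.X p)).symm.surjective w.1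
    rw [TensorProduct.lid_symm_apply] at hz
    have hw : (K.d p).baseChange R w.1 = 0 := LinearMap.mem_ker.1 w.2
    rw [← hz, LinearMap.baseChange_tmul] at hw
    have hdz : K.d p z = 0 := by
      have := congrArg (TensorProduct.lid R (K.X (p + 1))) hw
      simpa using this
    rw [← hz]
    refine (K.baseChange_mkQ_eq_zero_iff R p _).1 ?_
    rw [LinearMap.baseChange_tmul, show (K.bd p).mkQ z = 0 from (Submodule.Quotient.mk_eq_zero _).2 (key z hdz),
      TensorProduct.tmul_zero]
  exact (hhEquivL (A := R) ((Scheme.Modules.pullbackId X).app G) p).symm.toEquiv.subsingleton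

/-- The fibres of a modification of a base of dimension at most one are finite. -/
theorem fibre_dim_le_zero {X S : Scheme.{u}} [IsIntegral X] [IsIntegral S] (f : X ⟶ S) {U : S.Opens}
    [IsLocallyNoetherian S] [CompactSpace S] [S.IsSeparated] [IsProper f]
    (hS : ∀ s : S, ringKrullDim (S.presheaf.stalk s) ≤ 1)
    (hU : (U : Set S).Nonempty) (h : IsIso (f ∣_ U)) (s : S) :
    topologicalKrullDim ↥(f.fiber s) ≤ (0 : ℕ) := by
  haveI : AlgebraicGeometry.IsNoetherian S := { }
  haveI : IsLocallyNoetherian X := LocallyOfFiniteType.isLocallyNoetherian f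
  haveI : CompactSpace X := QuasiCompact.compactSpace_of_compactSpace f
  haveI : AlgebraicGeometry.IsNoetherian X := { }
  haveI : X.IsSeparated := ⟨by rw [← Limits.terminal.comp_from f]; infer_instance⟩
  have hbir := ModifDimLib.isBirational_of_isIso f hU h
  rw [ASp.topologicalKrullDim_eq_krullDim, Nat.cast_zero, Order.krullDim_nonpos_iff_forall_isMax]
  intro a b hab
  by_contra hba
  let g := f.fiberι s
  have h01 : g a < g b := by
    refine lt_iff_le_not_ge.2 ⟨Scheme.le_iff_specializes.2 ((Scheme.le_iff_specializes.1 hab).map g.continuous),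
      fun h' => hba (Scheme.le_iff_specializes.2 ?_)⟩
    exact g.isEmbedding.isInducing.specializes_iff.1 (Scheme.le_iff_specializes.1 h')
  have hfib : ∀ x : f.fiber s, f (g x) = s := fun x => by
    have : g x ∈ Set.range g := ⟨x, rfl⟩
    rw [f.range_fiberι s] at this
    exact this
  have h2 := (Groth.Agent.S18879.result f hbir (g a)).trans (hS _)
  rw [ringKrullDim_stalk_eq_coheight] at h2
  have hle : Order.coheight (g a) ≤ 1 := WithBot.coe_le_coe.1 h2
  have hmax : g b = genericPoint X := by
    by_contra hne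
    have hη : g b < genericPoint X := lt_iff_le_not_ge.2
      ⟨Scheme.le_iff_specializes.2 (genericPoint_specializes _), fun h' =>
        hne (((Scheme.le_iff_specializes.1 h').antisymm (genericPoint_specializes _)).eq)⟩
    let p : LTSeries X := ⟨2, ![g a, g b, genericPoint X], fun i => by fin_cases i <;> assumption⟩
    have h3 : ((2 : ℕ) : ℕ∞) ≤ Order.coheight (g a) := Order.length_le_coheight (p := p) le_rfl
    exact absurd (h3.trans hle) (by decide)
  have hηS : genericPoint S ∈ (genericPoints S) := by rw [genericPoints_eq_singleton]; rfl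
  have hs : s = genericPoint S := by
    rw [← hfib b, hmax]
    have := hbir.1.mapsTo (show genericPoint X ∈ genericPoints X by rw [genericPoints_eq_singleton]; rfl)
    rwa [genericPoints_eq_singleton] at this
  exact h01.ne ((hbir.2 (genericPoint S) hηS).1 _ _ ((hfib _).trans hs) ((hfib _).trans hs))

/-- A normal modification of a normal domain of dimension two with rational singularities has no first
cohomology. -/
theorem subsingleton_H1_modification (B : Type u) [CommRing B] [IsDomain B] [IsNoetherianRing B]
    (hB2 : ringKrullDim B ≤ 2)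
    (hB : ∀ (n : Ideal B) [n.IsMaximal], ringKrullDim (Localization.AtPrime n) = 2 →
      Curv2.IsRationalSing (Localization.AtPrime n))
    (Z : Scheme.{u}) [Z.Over (Spec (CommRingCat.of B))] [IsProper (Z ↘ Spec (CommRingCat.of B))] [IsIntegral Z]
    (hZn : Pi1.IsNormalScheme Z) (V : (Spec (CommRingCat.of B)).Opens) (hV : (V : Set (Spec (CommRingCat.of B))).Nonempty)
    [IsIso ((Z ↘ Spec (CommRingCat.of B)) ∣_ V)] : Subsingleton (Coh.HH Z (Coh.structureModule Z) 1) := by
  haveI : IsDomain (CommRingCat.of B) := inferInstanceAs (IsDomain B)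
  haveI : IsNoetherianRing (CommRingCat.of B) := inferInstanceAs (IsNoetherianRing B)
  haveI : IsSeparated (str (CommRingCat.of B) Z) := inferInstanceAs (IsSeparated (Z ↘ Spec (CommRingCat.of B)))
  haveI : QuasiCompact (str (CommRingCat.of B) Z) := inferInstanceAs (QuasiCompact (Z ↘ Spec (CommRingCat.of B)))
  refine subsingleton_of_local (R := CommRingCat.of B) (X := Z) 1 fun n hn => ?_
  let Bn := Localization.AtPrime n
  haveI : IsDomain (CommRingCat.of Bn) := inferInstanceAs (IsDomain Bn)
  haveI : IsNoetherianRing (CommRingCat.of Bn) := inferInstanceAs (IsNoetherianRing Bn)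
  let α : Spec (CommRingCat.of Bn) ⟶ Spec (CommRingCat.of B) :=
    Spec.map (CommRingCat.ofHom (algebraMap B Bn))
  haveI : IsPreimmersion α := IsPreimmersion.of_isLocalization n.primeCompl
  haveI : Flat α := (HasRingHomProperty.Spec_iff (P := @Flat)).2
    (RingHom.flat_algebraMap_iff.2 (IsLocalization.flat Bn n.primeCompl))
  let f := Z ↘ Spec (CommRingCat.of B)
  let Zn := pullback f α
  let g : Zn ⟶ Z := pullback.fst f α
  let c : Zn ⟶ Spec (CommRingCat.of Bn) := pullback.snd f α
  show Subsingleton (Coh.HH Zn (Coh.structureModule Zn) 1)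
  haveI : Flat g := MorphismProperty.pullback_fst _ _ inferInstance
  haveI : IsPreimmersion g := MorphismProperty.pullback_fst _ _ inferInstance
  haveI : IsProper c := MorphismProperty.pullback_snd _ _ inferInstance
  -- the generic point
  let η : Spec (CommRingCat.of B) := ⟨⊥, Ideal.isPrime_bot⟩
  have hηV : η ∈ V := ((PrimeSpectrum.le_iff_specializes η hV.some).mp bot_le).mem_open V.2 hV.some_mem
  let O : (Spec (CommRingCat.of Bn)).Opens := α ⁻¹ᵁ V
  let η' : Spec (CommRingCat.of Bn) := ⟨⊥, Ideal.isPrime_bot⟩
  have hη' : η' ∈ O := by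
    show α η' ∈ V
    have : α η' = η := PrimeSpectrum.ext (Ideal.comap_bot_of_injective _
      (IsLocalization.injective Bn n.primeCompl_le_nonZeroDivisors))
    rwa [this]
  haveI hcO : IsIso (c ∣_ O) := ModPairLib.isIso_restrict_baseChange (IsPullback.of_hasPullback f α) V O le_rfl
  haveI : IsIntegral ((g ⁻¹ᵁ (f ⁻¹ᵁ V) : Zn.Opens) : Scheme.{u}) := by
    have e : g ⁻¹ᵁ (f ⁻¹ᵁ V) = c ⁻¹ᵁ O := by
      simp only [O, ← Scheme.Hom.comp_preimage, g, c, pullback.condition]
    rw [e]
    haveI : Nonempty (O : Scheme.{u}) := ⟨⟨η', hη'⟩⟩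
    haveI : Nonempty ((c ⁻¹ᵁ O : Zn.Opens) : Scheme.{u}) := ⟨inv (c ∣_ O) ⟨η', hη'⟩⟩
    haveI : IsIntegral (O : Scheme.{u}) := isIntegral_of_isOpenImmersion O.ι
    exact IsIntegral.of_isIso (inv (c ∣_ O))
  haveI : IsIntegral Zn := RatCplLib.isIntegral_of_flat g (f ⁻¹ᵁ V) ⟨_, (inv (f ∣_ V) ⟨η, hηV⟩).2⟩
  have hZnn : Pi1.IsNormalScheme Zn := fun z => by
    haveI := ASp.isIso_stalkMap_of_flat_preimmersion g z
    obtain ⟨h1, h2⟩ := hZn (g z)
    haveI := h1
    haveI := h2
    let e := (asIso (g.stalkMap z)).commRingCatIsoToRingEquiv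
    exact ⟨e.toMulEquiv.symm.isDomain _, IsIntegrallyClosed.of_equiv e⟩
  have hdim : ringKrullDim Bn ≤ 2 := (ringKrullDim_localization_atPrime_le n).trans hB2
  by_cases h2 : ringKrullDim Bn = 2
  · exact hB n h2 Zn c inferInstance inferInstance hZnn ⟨O, ⟨η', hη'⟩, hcO⟩
  have h1 : ringKrullDim Bn ≤ 1 := by
    rcases hd : ringKrullDim Bn with _ | d
    · exact bot_le
    · rw [hd] at hdim h2
      have hd2 : d < (2 : ℕ∞) := lt_of_le_of_ne (WithBot.coe_le_coe.1 hdim) fun e => h2 (by rw [e]; rfl)
      exact WithBot.coe_le_coe.2 ((ENat.lt_add_one_iff (by simp)).1 hd2)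
  have hfd := fibre_dim_le_zero c (fun y => (S1688.dim_le y).trans
    ((le_of_eq (PrimeSpectrum.topologicalKrullDim_eq_ringKrullDim Bn)).trans h1)) ⟨η', hη'⟩ hcO
  haveI := FibreVanishQC.subsingleton_HU_affine c 0 hfd (Coh.structureModule Zn) 0 le_rfl
  exact CohBase.subsingleton_HH _ _ inferInstance
where
  ringKrullDim_localization_atPrime_le {B : Type u} [CommRing B] (n : Ideal B) [n.IsPrime] :
      ringKrullDim (Localization.AtPrime n) ≤ ringKrullDim B := by
    rw [IsLocalization.AtPrime.ringKrullDim_eq_height n (Localization.AtPrime n)]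
    exact Ideal.height_le_ringKrullDim_of_ne_top (Ideal.IsPrime.ne_top ‹_›)

end Groth.Agent.TraceH1Lib
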