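import Groth.Agent.RatCplLib.Main

/-!
# Normalization of a proper birational scheme over a Nagata domain, as a finite morphism
-/

set_option autoImplicit false
set_option backward.isDefEq.respectTransparency false
set_option linter.style.haveILetI false
set_option maxHeartbeats 800000

universe u

open CategoryTheory CategoryTheory.Limits AlgebraicGeometry TopologicalSpace

noncomputable section

namespace Groth.Agent.TraceH1Lib

/-- A proper scheme over a Nagata domain, isomorphic over a nonempty open, receives a normal integral one. -/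
theorem exists_normal_finite_over {A : Type u} [CommRing A] [IsDomain A] [IsNoetherianRing A] (hN : CAlg.IsNagata A)
    {X : Scheme.{u}} (f : X ⟶ Spec (CommRingCat.of A)) [IsProper f] (U : (Spec (CommRingCat.of A)).Opens)
    (hU : (U : Set (Spec (CommRingCat.of A))).Nonempty) [IsIso (f ∣_ U)] :
    ∃ (X' : Scheme.{u}) (π : X' ⟶ X), IsFinite π ∧ IsIntegral X' ∧ Pi1.IsNormalScheme X' ∧
      ∃ V : (Spec (CommRingCat.of A)).Opens, (V : Set (Spec (CommRingCat.of A))).Nonempty ∧
        IsIso ((π ≫ f) ∣_ V) := by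
  let B := Spec (CommRingCat.of A)
  haveI : IsNoetherian B := inferInstanceAs (IsNoetherian (Spec (CommRingCat.of A)))
  haveI : IsIntegral B := inferInstanceAs (IsIntegral (Spec (CommRingCat.of A)))
  haveI : Nonempty (U : Scheme.{u}) := hU.to_subtype
  haveI : IsIntegral (U : Scheme.{u}) := isIntegral_of_isOpenImmersion U.ι
  let t : (U : Scheme.{u}) ⟶ X := inv (f ∣_ U) ≫ (f ⁻¹ᵁ U).ι
  have ht : t ≫ f = U.ι := by
    simp only [t, Category.assoc, ← morphismRestrict_ι, IsIso.inv_hom_id_assoc]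
  haveI : CompactSpace (U : Scheme.{u}) := isCompact_iff_compactSpace.1 (TopologicalSpace.NoetherianSpace.isCompact (U : Set B))
  haveI : QuasiSeparatedSpace X := quasiSeparatedSpace_of_quasiSeparated f
  haveI : QuasiCompact t := quasiCompact_of_compactSpace t
  haveI : IsIso ((t.imageι ≫ f) ∣_ U) := RGBlowLib.isIso_image_restrict f U t ht
  haveI : IsIntegral t.image := ProperFin.isIntegral_image t
  let π : t.image ⟶ B := t.imageι ≫ f
  haveI : IsProper π := inferInstanceAs (IsProper (t.imageι ≫ f))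
  haveI : IsIso (π ∣_ U) := inferInstanceAs (IsIso ((t.imageι ≫ f) ∣_ U))
  haveI : IsNoetherian t.image := RGBlowLib.Union.isNoetherian_of_ft π
  haveI : QuasiCompact (t.image.fromSpecStalk (genericPoint t.image)) := quasiCompact_of_compactSpace _
  haveI : QuasiSeparated (t.image.fromSpecStalk (genericPoint t.image)) := inferInstance
  have hZ : ∀ V : t.image.affineOpens, CAlg.IsNagata Γ(t.image, V.1) := S7359.isNagata_of_lft π fun W => by
      refine S9833.result B (fun _ : PUnit.{u + 1} => ⊤) iSup_const (fun _ => isAffineOpen_top _) (fun _ => ?_) W.1 W.2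
      exact NagataLib.isNagata_of_surjective (Scheme.ΓSpecIso (CommRingCat.of A)).inv.hom
        (Scheme.ΓSpecIso (CommRingCat.of A)).symm.commRingCatIsoToRingEquiv.surjective hN
  haveI : IsFinite (Curv2.normalizationι t.image) := S9688.result t.image fun V hV hne => by
    haveI : Nonempty (V : Scheme.{u}) := hne
    haveI := IsIntegral.component_integral (X := t.image) V
    obtain ⟨hnoeth, hN2⟩ := hZ ⟨V, hV⟩
    exact NagataCompleteLib.isN2_of_ringEquiv (RingEquiv.quotientBot Γ(t.image, V)) (hN2 ⊥)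
  obtain ⟨hint, hnorm, -, -⟩ := S2351.result t.image
  obtain ⟨W, hW, hWiso⟩ := BMCohLib.exists_isIso_normalization (Z := t.image)
  haveI := hWiso
  let V₀ : (U : Scheme.{u}).Opens := inv (π ∣_ U) ⁻¹ᵁ ((π ⁻¹ᵁ U).ι ⁻¹ᵁ W)
  let V : B.Opens := U.ι ''ᵁ V₀
  have hVW : π ⁻¹ᵁ V ≤ W := fun z hz => by
    obtain ⟨u, hu, hzu⟩ := hz
    have hzU : z ∈ π ⁻¹ᵁ U := by
      show π z ∈ U
      rw [← hzu]
      exact u.2
    have e : inv (π ∣_ U) u = ⟨z, hzU⟩ := by
      apply (π ∣_ U).isOpenEmbedding.injective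
      rw [← Scheme.Hom.comp_apply, IsIso.inv_hom_id]
      exact Subtype.ext (hzu.trans (morphismRestrict_base_coe π U ⟨z, hzU⟩).symm)
    have := show (π ⁻¹ᵁ U).ι (inv (π ∣_ U) u) ∈ W from hu
    rw [e] at this
    exact this
  have hVne : (V : Set B).Nonempty := by
    obtain ⟨z, hzW, hzU⟩ : ((W : Set t.image) ∩ (π ⁻¹ᵁ U : Set t.image)).Nonempty := by
      refine nonempty_preirreducible_inter W.2 (π ⁻¹ᵁ U).2 ⟨_, hW⟩ ?_
      obtain ⟨⟨u, hu⟩⟩ := (inferInstance : Nonempty (U : Scheme.{u}))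
      exact ⟨_, (inv (π ∣_ U) ⟨u, hu⟩).2⟩
    refine ⟨_, (π ∣_ U) ⟨z, hzU⟩, ?_, rfl⟩
    show (π ⁻¹ᵁ U).ι (inv (π ∣_ U) ((π ∣_ U) ⟨z, hzU⟩)) ∈ W
    rw [← Scheme.Hom.comp_apply (π ∣_ U), IsIso.hom_inv_id]
    exact hzW
  refine ⟨Curv2.normalization t.image, Curv2.normalizationι t.image ≫ t.imageι,
    MorphismProperty.comp_mem (W := @IsFinite) _ _ inferInstance inferInstance, hint, hnorm, V, hVne, ?_⟩
  haveI : IsIso (π ∣_ V) := (MorphismProperty.arrow_mk_iso_iff (MorphismProperty.isomorphisms Scheme.{u})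
      (morphismRestrictRestrict π U V₀)).1 (inferInstanceAs (IsIso (π ∣_ U ∣_ V₀)))
  haveI : IsIso (Curv2.normalizationι t.image ∣_ (π ⁻¹ᵁ V)) := BMCohLib.isIso_restrict_le _ hVW
  rw [Category.assoc, morphismRestrict_comp]
  exact inferInstanceAs (IsIso ((Curv2.normalizationι t.image ∣_ (π ⁻¹ᵁ V)) ≫ (π ∣_ V)))

end Groth.Agent.TraceH1Lib
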