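import Groth.Agent.SurfPtBlow.Push
import Groth.Prelude.Def_Pi1
import Mathlib.RingTheory.LocalProperties.IntegrallyClosed
import Mathlib.RingTheory.Trace.Basic

/-!
# The degree kills `H¹(O)` along a finite covering without first cohomology

For a finite morphism onto a normal integral scheme with a finite extension of function fields, the
trace splits the map of structure sheaves up to the degree.
-/

set_option autoImplicit false
set_option backward.isDefEq.respectTransparency false
set_option backward.isDefEq.respectTransparency.types false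
set_option linter.style.haveILetI false
set_option maxHeartbeats 1000000

universe u

open CategoryTheory CategoryTheory.Limits AlgebraicGeometry Opposite TopologicalSpace

noncomputable section

namespace Groth.Agent.TraceH1Lib

/-- The value of a section at a field-valued point. -/
def val {X : Scheme.{u}} {F : Type u} [CommRing F] (i : Spec (CommRingCat.of F) ⟶ X) (U : X.Opens)
    (h : (⊤ : (Spec (CommRingCat.of F)).Opens) ≤ i ⁻¹ᵁ U) : Γ(X, U) →+* F :=
  (i.appLE U ⊤ h ≫ (Scheme.ΓSpecIso (CommRingCat.of F)).hom).hom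

theorem val_res {X : Scheme.{u}} {F : Type u} [CommRing F] (i : Spec (CommRingCat.of F) ⟶ X) {U V : X.Opens}
    (e : V ⟶ U) (h : (⊤ : (Spec (CommRingCat.of F)).Opens) ≤ i ⁻¹ᵁ V) (c : Γ(X, U)) :
    val i V h ((X.presheaf.map e.op).hom c) = val i U (h.trans (i.preimage_mono e.le)) c := by
  show ((X.presheaf.map e.op) ≫ i.appLE V ⊤ h ≫ _).hom c = _
  rw [← Category.assoc, Scheme.Hom.map_appLE]
  rfl

theorem val_comp {X Z : Scheme.{u}} (π : Z ⟶ X) {K L : Type u} [CommRing K] [CommRing L] [Algebra K L]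
    (i : Spec (CommRingCat.of K) ⟶ X) (j : Spec (CommRingCat.of L) ⟶ Z)
    (hij : j ≫ π = Spec.map (CommRingCat.ofHom (algebraMap K L)) ≫ i) (U : X.Opens)
    (h : (⊤ : (Spec (CommRingCat.of K)).Opens) ≤ i ⁻¹ᵁ U)
    (h' : (⊤ : (Spec (CommRingCat.of L)).Opens) ≤ j ⁻¹ᵁ (π ⁻¹ᵁ U)) (c : Γ(X, U)) :
    val j (π ⁻¹ᵁ U) h' ((π.app U).hom c) = algebraMap K L (val i U h c) := by
  let φ := CommRingCat.ofHom (algebraMap K L)
  have key : π.app U ≫ j.appLE (π ⁻¹ᵁ U) ⊤ h' ≫ (Scheme.ΓSpecIso (CommRingCat.of L)).hom =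
      (i.appLE U ⊤ h ≫ (Scheme.ΓSpecIso (CommRingCat.of K)).hom) ≫ φ := by
    have e1 : π.app U ≫ j.appLE (π ⁻¹ᵁ U) ⊤ h' = (j ≫ π).appLE U ⊤ h' := by
      rw [Scheme.Hom.app_eq_appLE, Scheme.Hom.appLE_comp_appLE]
    have e2 : i.appLE U ⊤ h ≫ (Spec.map φ).appTop = (Spec.map φ ≫ i).appLE U ⊤ (fun _ _ => h (trivial)) := by
      rw [← Scheme.Hom.appLE_comp_appLE (Spec.map φ) i U ⊤ ⊤ h le_top]
      congr 1
    rw [Category.assoc, ← Scheme.ΓSpecIso_naturality, ← Category.assoc (π.app U), e1,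
      ← Category.assoc (i.appLE U ⊤ h), e2]
    congr 1
    simp only [hij, φ]
  exact congrArg (fun q => q.hom c) key

variable {Y : Scheme.{u}} [IsIntegral Y]

/-- An open containing the generic point contains a point lying over it. -/
theorem top_le_of_mem {F : Type u} [Field F] {i : Spec (CommRingCat.of F) ⟶ Y}
    (hi : ∀ p, i p = genericPoint Y) {U : Y.Opens} (hU : genericPoint Y ∈ U) :
    (⊤ : (Spec (CommRingCat.of F)).Opens) ≤ i ⁻¹ᵁ U := fun p _ => by
  show i p ∈ U
  rwa [hi]

theorem val_injective {F : Type u} [Field F] {i : Spec (CommRingCat.of F) ⟶ Y}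
    (hi : ∀ p, i p = genericPoint Y) {U : Y.Opens} (hU : genericPoint Y ∈ U) :
    Function.Injective (val i U (top_le_of_mem hi hU)) := by
  refine (injective_iff_map_eq_zero _).2 fun c hc => ?_
  by_contra hc0
  have hne : Y.basicOpen c ≠ ⊥ := fun h => hc0 ((basicOpen_eq_bot_iff c).1 h)
  obtain ⟨y, hy⟩ : (Y.basicOpen c : Set Y).Nonempty := Set.nonempty_iff_ne_empty.2 fun h =>
    hne (TopologicalSpace.Opens.ext h)
  have hη : genericPoint Y ∈ Y.basicOpen c := (genericPoint_specializes y).mem_open (Y.basicOpen c).2 hy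
  let p : Spec (CommRingCat.of F) := ⟨⊥, Ideal.isPrime_bot⟩
  have h0 : (i.appLE U ⊤ (top_le_of_mem hi hU)).hom c = 0 :=
    (ConcreteCategory.bijective_of_isIso (Scheme.ΓSpecIso (CommRingCat.of F)).hom).1 (hc.trans (map_zero _).symm)
  have hp : p ∈ i ⁻¹ᵁ Y.basicOpen c := by
    show i p ∈ Y.basicOpen c
    rwa [hi]
  have h2 := Scheme.basicOpen_appLE i ⊤ U (top_le_of_mem hi hU) c
  rw [h0, Scheme.basicOpen_zero, top_inf_eq] at h2
  rw [← h2] at hp
  exact hp

variable (hn : Pi1.IsNormalScheme Y)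

include hn in
theorem isIntegrallyClosed_sections {U : Y.Opens} (hU : IsAffineOpen U)
    [Nonempty ↥U] [IsDomain Γ(Y, U)] : IsIntegrallyClosed Γ(Y, U) := by
  refine IsIntegrallyClosed.of_localization_maximal fun m _ => ?_
  intro
  let x : U := ⟨hU.fromSpec ⟨m, inferInstance⟩, by
    have := Set.mem_range_self (f := hU.fromSpec) ⟨m, inferInstance⟩
    rwa [hU.range_fromSpec] at this⟩
  have hm : hU.primeIdealOf x = ⟨m, inferInstance⟩ :=
    hU.fromSpec.isOpenEmbedding.injective (hU.fromSpec_primeIdealOf x)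
  letI := TopCat.Presheaf.algebra_section_stalk Y.presheaf x
  haveI := hU.isLocalization_stalk x
  haveI : IsLocalization.AtPrime (Y.presheaf.stalk x.1) m := by
    have h := hU.isLocalization_stalk x
    simpa only [hm] using h
  haveI := (hn x.1).2
  exact IsIntegrallyClosed.of_equiv
    (IsLocalization.algEquiv m.primeCompl (Y.presheaf.stalk x.1) (Localization.AtPrime m)).toRingEquiv

variable {Z : Scheme.{u}} (π : Z ⟶ Y) [IsFinite π]
  {K L : Type u} [Field K] [Field L] [Algebra K L] [FiniteDimensional K L]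
  (i : Spec (CommRingCat.of K) ⟶ Y) (j : Spec (CommRingCat.of L) ⟶ Z)
  (hij : j ≫ π = Spec.map (CommRingCat.ofHom (algebraMap K L)) ≫ i) (hi : ∀ p, i p = genericPoint Y)
  (hfrac : ∀ k : K, ∃ a b : Γ(Y, ⊤), val i ⊤ le_top b ≠ 0 ∧ k * val i ⊤ le_top b = val i ⊤ le_top a)

include hij in
theorem top_le_of_mem' {U : Y.Opens} (h : (⊤ : (Spec (CommRingCat.of K)).Opens) ≤ i ⁻¹ᵁ U) :
    (⊤ : (Spec (CommRingCat.of L)).Opens) ≤ j ⁻¹ᵁ (π ⁻¹ᵁ U) := by
  rw [← Scheme.Hom.comp_preimage, hij, Scheme.Hom.comp_preimage]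
  exact fun p _ => h trivial

/-- The trace of a section over an open set containing the generic point. -/
def traceVal {U : Y.Opens} (hU : genericPoint Y ∈ U) : Γ(Z, π ⁻¹ᵁ U) →+ K :=
  (Algebra.trace K L).toAddMonoidHom.comp
    (val j (π ⁻¹ᵁ U) (top_le_of_mem' π i j hij (top_le_of_mem hi hU))).toAddMonoidHom

theorem traceVal_res {U V : Y.Opens} (e : V ⟶ U) (hV : genericPoint Y ∈ V) (s : Γ(Z, π ⁻¹ᵁ U)) :
    traceVal π i j hij hi hV ((Z.presheaf.map ((TopologicalSpace.Opens.map π.base).map e).op).hom s) =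
      traceVal π i j hij hi (e.le hV) s :=
  congrArg (Algebra.trace K L) (val_res j ((TopologicalSpace.Opens.map π.base).map e) _ s)

include hn hfrac in
theorem traceVal_mem_affine {V : Y.Opens} (hV : IsAffineOpen V) (hVη : genericPoint Y ∈ V)
    (s : Γ(Z, π ⁻¹ᵁ V)) : ∃ c, val i V (top_le_of_mem hi hVη) c = traceVal π i j hij hi hVη s := by
  haveI : Nonempty V := ⟨⟨_, hVη⟩⟩
  haveI : Nonempty ↥V := ⟨⟨_, hVη⟩⟩
  haveI : IsDomain Γ(Y, V) := IsIntegral.component_integral (X := Y) V
  haveI := isIntegrallyClosed_sections hn hV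
  let σ := val i V (top_le_of_mem hi hVη)
  let ρ := val j (π ⁻¹ᵁ V) (top_le_of_mem' π i j hij (top_le_of_mem hi hVη))
  letI : Algebra Γ(Y, V) K := σ.toAlgebra
  letI : Algebra Γ(Y, V) L := ((algebraMap K L).comp σ).toAlgebra
  haveI : IsScalarTower Γ(Y, V) K L := IsScalarTower.of_algebraMap_eq fun _ => rfl
  haveI : FaithfulSMul Γ(Y, V) K := (faithfulSMul_iff_algebraMap_injective _ _).2 (val_injective hi hVη)
  haveI : IsFractionRing Γ(Y, V) K := IsFractionRing.of_field _ _ fun k => by
    obtain ⟨a, b, hb, hab⟩ := hfrac k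
    let r := (Y.presheaf.map (homOfLE (le_top : V ≤ ⊤)).op).hom
    refine ⟨r a, r b, ?_⟩
    show k = σ (r a) / σ (r b)
    rw [show σ (r a) = _ from val_res i _ _ a, show σ (r b) = _ from val_res i _ _ b, eq_div_iff hb]
    exact hab
  have hint : IsIntegral Γ(Y, V) (ρ s) := by
    obtain ⟨P, hP, hPs⟩ := (RingHom.Finite.to_isIntegral (IsFinite.finite_app π V hV)) s
    refine ⟨P, hP, ?_⟩
    have h := congrArg ρ hPs
    rw [map_zero, Polynomial.hom_eval₂] at h
    rwa [show ρ.comp (π.app V).hom = algebraMap Γ(Y, V) L from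
      RingHom.ext fun c => val_comp π i j hij V _ _ c] at h
  obtain ⟨c, hc⟩ := IsIntegrallyClosed.isIntegral_iff.1 (Algebra.isIntegral_trace (L := K) hint)
  exact ⟨c, hc⟩

include hn hfrac in
theorem exists_trace {U : Y.Opens} (hU : genericPoint Y ∈ U) (s : Γ(Z, π ⁻¹ᵁ U)) :
    ∃ c, val i U (top_le_of_mem hi hU) c = traceVal π i j hij hi hU s := by
  let ι := {V : Y.affineOpens // (V : Y.Opens) ≤ U ∧ (V.1 : Set Y).Nonempty}
  have hη : ∀ V : ι, genericPoint Y ∈ V.1.1 := fun V =>
    (genericPoint_specializes V.2.2.some).mem_open V.1.1.2 V.2.2.some_mem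
  choose c hc using fun V : ι => traceVal_mem_affine hn π i j hij hi hfrac V.1.2 (hη V)
    ((Z.presheaf.map ((TopologicalSpace.Opens.map π.base).map (homOfLE V.2.1)).op).hom s)
  have hcov : U ≤ iSup fun V : ι => V.1.1 := fun y hy => by
    obtain ⟨_, ⟨V, hV, rfl⟩, hyV, hVU⟩ := Y.isBasis_affineOpens.exists_subset_of_mem_open
      (show y ∈ (U : Set Y) from hy) U.2
    exact TopologicalSpace.Opens.mem_iSup.2 ⟨⟨⟨V, hV⟩, hVU, y, hyV⟩, hyV⟩
  obtain ⟨g, hg, -⟩ := TopCat.Sheaf.existsUnique_gluing' Y.sheaf (fun V : ι => V.1.1) U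
    (fun V => homOfLE V.2.1) hcov c (fun a b => val_injective hi
      (U := a.1.1 ⊓ b.1.1) ⟨hη a, hη b⟩ (by
        refine ((val_res i _ _ (c a)).trans (hc a)).trans (Eq.trans ?_ ((val_res i _ _ (c b)).trans (hc b)).symm)
        rw [traceVal_res, traceVal_res]))
  obtain ⟨y, hy⟩ : ∃ y, y ∈ U := ⟨_, hU⟩
  obtain ⟨V, hV⟩ := TopologicalSpace.Opens.mem_iSup.1 (hcov hy)
  refine ⟨g, ?_⟩
  have h1 := congrArg (val i V.1.1 (top_le_of_mem hi (hη V))) (hg V)
  rw [hc V, traceVal_res] at h1
  exact (val_res i (homOfLE V.2.1) (top_le_of_mem hi (hη V)) g).symm.trans h1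

omit [IsFinite π] [FiniteDimensional K L] in
theorem subsingleton_of_notMem {U : Y.Opens} (hU : genericPoint Y ∉ U) : Subsingleton Γ(Y, U) := by
  have h0 : U = ⊥ := TopologicalSpace.Opens.ext (Set.eq_empty_iff_forall_notMem.2 fun y hy =>
    hU ((genericPoint_specializes y).mem_open U.2 hy))
  rw [h0]
  exact CommRingCat.subsingleton_of_isTerminal Y.sheaf.isTerminalOfEmpty

open scoped Classical in
/-- The trace on sections. -/
def traceApp (U : Y.Opens) (s : Γ(Z, π ⁻¹ᵁ U)) : Γ(Y, U) :=
  if hU : genericPoint Y ∈ U then (exists_trace hn π i j hij hi hfrac hU s).choose else 0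

theorem val_traceApp {U : Y.Opens} (hU : genericPoint Y ∈ U) (s : Γ(Z, π ⁻¹ᵁ U)) :
    val i U (top_le_of_mem hi hU) (traceApp hn π i j hij hi hfrac U s) = traceVal π i j hij hi hU s := by
  rw [traceApp, dif_pos hU]
  exact (exists_trace hn π i j hij hi hfrac hU s).choose_spec

theorem traceApp_add (U : Y.Opens) (s t : Γ(Z, π ⁻¹ᵁ U)) :
    traceApp hn π i j hij hi hfrac U (s + t) =
      traceApp hn π i j hij hi hfrac U s + traceApp hn π i j hij hi hfrac U t := by
  by_cases hU : genericPoint Y ∈ U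
  · refine val_injective hi hU ?_
    rw [map_add, val_traceApp hn π i j hij hi hfrac hU, val_traceApp hn π i j hij hi hfrac hU,
      val_traceApp hn π i j hij hi hfrac hU, map_add]
  · haveI := subsingleton_of_notMem hU
    exact Subsingleton.elim _ _

theorem traceApp_app (U : Y.Opens) (c : Γ(Y, U)) :
    traceApp hn π i j hij hi hfrac U ((π.app U).hom c) = Module.finrank K L • c := by
  by_cases hU : genericPoint Y ∈ U
  · refine val_injective hi hU ?_
    rw [map_nsmul, val_traceApp hn π i j hij hi hfrac hU]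
    exact (congrArg (Algebra.trace K L) (val_comp π i j hij U _ _ c)).trans (Algebra.trace_algebraMap _)
  · haveI := subsingleton_of_notMem hU
    exact Subsingleton.elim _ _

/-- The trace as a morphism of sheaves of abelian groups. -/
def traceHom : (CohTop.push π.base).obj (Coh.toAb (Coh.structureModule Z)) ⟶ Coh.toAb (Coh.structureModule Y) :=
  ObjectProperty.homMk
    { app := fun U => AddCommGrpCat.ofHom (AddMonoidHom.mk' (fun s : Γ(Z, π ⁻¹ᵁ U.unop) =>
          (traceApp hn π i j hij hi hfrac U.unop s : Γ(Y, U.unop)))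
        (traceApp_add hn π i j hij hi hfrac U.unop))
      naturality := fun U V e => by
        ext s
        show traceApp hn π i j hij hi hfrac V.unop
            ((Z.presheaf.map ((TopologicalSpace.Opens.map π.base).map e.unop).op).hom s) =
          (Y.presheaf.map e).hom (traceApp hn π i j hij hi hfrac U.unop s)
        by_cases hV : genericPoint Y ∈ V.unop
        · refine val_injective hi hV ?_
          rw [val_traceApp hn π i j hij hi hfrac hV, traceVal_res]
          exact ((val_res i e.unop _ _).trans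
            (val_traceApp hn π i j hij hi hfrac (e.unop.le hV) s)).symm
        · haveI := subsingleton_of_notMem hV
          exact Subsingleton.elim _ _ }

include hn hij hi hfrac in
/-- **The degree kills the first cohomology.** -/
theorem finrank_nsmul_eq_zero (hH : Subsingleton (Coh.HH Z (Coh.structureModule Z) 1))
    (x : Coh.HH Y (Coh.structureModule Y) 1) : Module.finrank K L • x = 0 := by
  haveI := hH
  let F := Coh.toAb (Coh.structureModule Y)
  let u : F ⟶ (CohTop.push π.base).obj (Coh.toAb (Coh.structureModule Z)) :=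
    (SheafOfModules.toSheaf Y.ringCatSheaf).map (ClSub.unitToPush π)
  haveI hs : Subsingleton (Sheaf.H ((CohTop.push π.base).obj (Coh.toAb (Coh.structureModule Z))) 1) :=
    (SurfPtBlow.injective_edgeH_one π.base (Coh.toAb (Coh.structureModule Z))).subsingleton
  have hut : u ≫ traceHom hn π i j hij hi hfrac = Module.finrank K L • 𝟙 F := by
    refine ObjectProperty.hom_ext _ (NatTrans.ext (funext fun U => ?_))
    ext c
    exact traceApp_app hn π i j hij hi hfrac U.unop c
  have h1 : Sheaf.H.map (u ≫ traceHom hn π i j hij hi hfrac) 1 x = 0 := by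
    rw [Sheaf.H.map_comp_apply, Subsingleton.elim (Sheaf.H.map u 1 x) 0, map_zero]
  rw [hut] at h1
  have h2 : Sheaf.H.map (Module.finrank K L • 𝟙 F) 1 x = Module.finrank K L • x :=
    (map_nsmul (AddMonoidHom.mk' (fun f : F ⟶ F => Sheaf.H.map f 1 x) fun f g => Sheaf.H.map_add_apply f g x)
      (Module.finrank K L) (𝟙 F)).trans (congrArg (Module.finrank K L • ·) (Sheaf.H.map_id_apply x))
  rw [h2] at h1
  exact h1

end Groth.Agent.TraceH1Lib
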