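import Groth.Agent.TraceH1Lib.Local
import Groth.Agent.TraceH1Lib.Trace
import Groth.Agent.TraceH1Lib.Normal

/-!
# The degree kills `H¹(O)` of a normal modification below a surface with rational singularities
-/

set_option autoImplicit false
set_option backward.isDefEq.respectTransparency false
set_option backward.isDefEq.respectTransparency.types false
set_option linter.style.haveILetI false
set_option maxHeartbeats 1000000

universe u

open CategoryTheory CategoryTheory.Limits AlgebraicGeometry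

noncomputable section

namespace Groth.Agent.TraceH1Lib

/-- Morphisms into the part of a scheme over which the structure map is an isomorphism. -/
theorem hom_ext_of_isIso {T Y S : Scheme.{u}} (p : Y ⟶ S) (U : S.Opens) [IsIso (p ∣_ U)] (m m' : T ⟶ Y)
    (h : ∀ t, m t ∈ p ⁻¹ᵁ U) (e : m ≫ p = m' ≫ p) : m = m' := by
  have h' : ∀ t, m' t ∈ p ⁻¹ᵁ U := fun t => by
    show p (m' t) ∈ U
    rw [← Scheme.Hom.comp_apply, ← e, Scheme.Hom.comp_apply]
    exact h t
  have hr : ∀ {n : T ⟶ Y}, (∀ t, n t ∈ p ⁻¹ᵁ U) → Set.range n ⊆ Set.range (p ⁻¹ᵁ U).ι := fun hn => by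
    rintro _ ⟨t, rfl⟩
    rw [Scheme.Opens.range_ι]
    exact hn t
  let l := IsOpenImmersion.lift (p ⁻¹ᵁ U).ι m (hr h)
  let l' := IsOpenImmersion.lift (p ⁻¹ᵁ U).ι m' (hr h')
  haveI : Mono ((p ⁻¹ᵁ U).ι ≫ p) := by rw [← morphismRestrict_ι]; infer_instance
  have h2 : l = l' := (cancel_mono ((p ⁻¹ᵁ U).ι ≫ p)).1 (by
    simp only [l, l', IsOpenImmersion.lift_fac_assoc]
    exact e)
  calc m = l ≫ (p ⁻¹ᵁ U).ι := (IsOpenImmersion.lift_fac _ _ _).symm
    _ = l' ≫ (p ⁻¹ᵁ U).ι := by rw [h2]
    _ = m' := IsOpenImmersion.lift_fac _ _ _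

/-- The generic point over an open of isomorphism. -/
theorem exists_lift_generic {R F : Type u} [CommRing R] [IsDomain R] [Field F] [Algebra R F]
    (hinj : Function.Injective (algebraMap R F)) {Y : Scheme.{u}} [IsIntegral Y] (p : Y ⟶ Spec (CommRingCat.of R))
    (U : (Spec (CommRingCat.of R)).Opens) (hU : (U : Set (Spec (CommRingCat.of R))).Nonempty) [IsIso (p ∣_ U)] :
    ∃ i : Spec (CommRingCat.of F) ⟶ Y, i ≫ p = Spec.map (CommRingCat.ofHom (algebraMap R F)) ∧
      (∀ x, i x ∈ p ⁻¹ᵁ U) ∧ ∀ x, i x = genericPoint Y := by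
  haveI : IsDomain (CommRingCat.of R) := inferInstanceAs (IsDomain R)
  let t : Spec (CommRingCat.of F) ⟶ Spec (CommRingCat.of R) := Spec.map (CommRingCat.ofHom (algebraMap R F))
  let η : Spec (CommRingCat.of R) := ⟨⊥, Ideal.isPrime_bot⟩
  have ht : ∀ x, t x = η := fun x => by
    refine PrimeSpectrum.ext ?_
    show Ideal.comap (algebraMap R F) x.asIdeal = ⊥
    rw [show x.asIdeal = ⊥ from (Ideal.eq_bot_or_top _).resolve_right x.2.ne_top]
    exact Ideal.comap_bot_of_injective _ hinj
  have hηU : η ∈ U := ((PrimeSpectrum.le_iff_specializes η hU.some).mp bot_le).mem_open U.2 hU.some_mem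
  have hr : Set.range t ⊆ Set.range U.ι := by
    rintro _ ⟨x, rfl⟩
    rw [Scheme.Opens.range_ι, ht]
    exact hηU
  let i := IsOpenImmersion.lift U.ι t hr ≫ inv (p ∣_ U) ≫ (p ⁻¹ᵁ U).ι
  have hip : i ≫ p = t := by
    simp only [i, Category.assoc, ← morphismRestrict_ι, IsIso.inv_hom_id_assoc, IsOpenImmersion.lift_fac]
  have himem : ∀ x, i x ∈ p ⁻¹ᵁ U := fun x => by
    show p (i x) ∈ U
    rw [← Scheme.Hom.comp_apply, hip, ht]
    exact hηU
  refine ⟨i, hip, himem, fun x => ?_⟩
  have hgen : p (genericPoint Y) = η := by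
    have h1 : p (genericPoint Y) ⤳ η := by
      have := (genericPoint_specializes (i x)).map p.continuous
      rwa [← Scheme.Hom.comp_apply i p, hip, ht] at this
    exact (h1.antisymm ((PrimeSpectrum.le_iff_specializes η _).mp bot_le)).eq
  have e : (p ∣_ U) ⟨i x, himem x⟩ = (p ∣_ U) ⟨genericPoint Y, show p (genericPoint Y) ∈ U from hgen ▸ hηU⟩ :=
    Subtype.ext (((morphismRestrict_base_coe p U _).trans (by rw [← Scheme.Hom.comp_apply, hip, ht, hgen])).trans
      (morphismRestrict_base_coe p U _).symm)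
  exact congrArg Subtype.val ((p ∣_ U).isOpenEmbedding.injective e)

/-- The value of a global function coming from the base. -/
theorem val_toGlobal {R F : Type u} [CommRing R] [CommRing F] [Algebra R F] {Y : Scheme.{u}}
    (p : Y ⟶ Spec (CommRingCat.of R)) (i : Spec (CommRingCat.of F) ⟶ Y)
    (hip : i ≫ p = Spec.map (CommRingCat.ofHom (algebraMap R F))) (r : R) :
    TraceH1Lib.val i ⊤ le_top (Coh.toGlobal p r) = algebraMap R F r := by
  have key : (Scheme.ΓSpecIso (CommRingCat.of R)).inv ≫ p.appTop ≫ i.appLE ⊤ ⊤ le_top ≫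
      (Scheme.ΓSpecIso (CommRingCat.of F)).hom = CommRingCat.ofHom (algebraMap R F) := by
    have e1 : i.appLE ⊤ ⊤ le_top = i.appTop := (Scheme.Hom.app_eq_appLE _).symm
    rw [e1, ← Category.assoc p.appTop, ← Scheme.Hom.comp_appTop, hip, Scheme.ΓSpecIso_naturality,
      Iso.inv_hom_id_assoc]
  exact congrArg (fun q => q.hom r) key



/-- A normal modification below a finite extension whose localizations are rational has first
cohomology killed by the degree. -/
theorem finrank_nsmul_H1 (A B : Type u) [CommRing A] [CommRing B] [IsDomain A] [IsDomain B]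
    [IsNoetherianRing A] [IsNoetherianRing B] (hNB : CAlg.IsNagata B) (hB2 : ringKrullDim B ≤ 2)
    [Algebra A B] [Module.Finite A B] (hinj : Function.Injective (algebraMap A B))
    (K L : Type u) [Field K] [Field L] [Algebra A K] [IsFractionRing A K] [Algebra B L] [IsFractionRing B L]
    [Algebra K L] [Algebra A L] [IsScalarTower A K L] [IsScalarTower A B L]
    (hB : ∀ (n : Ideal B) [n.IsMaximal], ringKrullDim (Localization.AtPrime n) = 2 →
      Curv2.IsRationalSing (Localization.AtPrime n))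
    (Y : Scheme.{u}) (p : Y ⟶ Spec (CommRingCat.of A)) [IsProper p] [IsIntegral Y] (hYn : Pi1.IsNormalScheme Y)
    (hbir : ∃ U : (Spec (CommRingCat.of A)).Opens, (U : Set (Spec (CommRingCat.of A))).Nonempty ∧ IsIso (p ∣_ U))
    (x : Coh.HH Y (Coh.structureModule Y) 1) : Module.finrank K L • x = 0 := by
  by_cases hfd : FiniteDimensional K L
  swap
  · rw [Module.finrank_of_not_finite hfd, zero_nsmul]
  haveI := hfd
  haveI : IsDomain (CommRingCat.of A) := inferInstanceAs (IsDomain A)
  haveI : IsDomain (CommRingCat.of B) := inferInstanceAs (IsDomain B)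
  haveI : IsNoetherianRing (CommRingCat.of A) := inferInstanceAs (IsNoetherianRing A)
  haveI : IsNoetherianRing (CommRingCat.of B) := inferInstanceAs (IsNoetherianRing B)
  obtain ⟨U, hU, hUi⟩ := hbir
  haveI := hUi
  let s : Spec (CommRingCat.of B) ⟶ Spec (CommRingCat.of A) := Spec.map (CommRingCat.ofHom (algebraMap A B))
  haveI : IsFinite s := (IsFinite.SpecMap_iff _).2 (RingHom.finite_algebraMap.2 inferInstance)
  let U' : (Spec (CommRingCat.of B)).Opens := s ⁻¹ᵁ U
  have hU' : (U' : Set (Spec (CommRingCat.of B))).Nonempty := by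
    refine ⟨(⟨⊥, Ideal.isPrime_bot⟩ : PrimeSpectrum B), ?_⟩
    show s _ ∈ U
    have hs : s (⟨⊥, Ideal.isPrime_bot⟩ : PrimeSpectrum B) = (⟨⊥, Ideal.isPrime_bot⟩ : PrimeSpectrum A) :=
      PrimeSpectrum.ext (Ideal.comap_bot_of_injective _ hinj)
    rw [hs]
    exact ((PrimeSpectrum.le_iff_specializes (⟨⊥, Ideal.isPrime_bot⟩ : PrimeSpectrum A) hU.some).mp bot_le).mem_open
      U.2 hU.some_mem
  let W := pullback p s
  haveI : IsProper (pullback.snd p s) := MorphismProperty.pullback_snd _ _ inferInstance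
  haveI : IsFinite (pullback.fst p s) := MorphismProperty.pullback_fst _ _ inferInstance
  haveI : IsIso (pullback.snd p s ∣_ U') :=
    ModPairLib.isIso_restrict_baseChange (IsPullback.of_hasPullback p s) U U' le_rfl
  obtain ⟨Z, πW, hπW, hZi, hZn, V, hV, hVi⟩ :=
    TraceH1Lib.exists_normal_finite_over hNB (pullback.snd p s) U' hU'
  haveI := hπW
  haveI := hZi
  let π : Z ⟶ Y := πW ≫ pullback.fst p s
  haveI : IsFinite π := inferInstanceAs (IsFinite (πW ≫ pullback.fst p s))
  letI : Z.Over (Spec (CommRingCat.of B)) := ⟨πW ≫ pullback.snd p s⟩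
  haveI : IsProper (Z ↘ Spec (CommRingCat.of B)) := inferInstanceAs (IsProper (πW ≫ pullback.snd p s))
  haveI : IsIso ((Z ↘ Spec (CommRingCat.of B)) ∣_ V) := hVi
  have hH := TraceH1Lib.subsingleton_H1_modification B hB2 hB Z hZn V hV
  have hAK : Function.Injective (algebraMap A K) := IsFractionRing.injective A K
  obtain ⟨i, hip, himem, higen⟩ := exists_lift_generic hAK p U hU
  obtain ⟨j, hjq, -, -⟩ := exists_lift_generic (IsFractionRing.injective B L) (Z ↘ Spec (CommRingCat.of B)) V hV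
  have hij : j ≫ π = Spec.map (CommRingCat.ofHom (algebraMap K L)) ≫ i := by
    refine (hom_ext_of_isIso p U _ _ (fun t => ?_) ?_).symm
    · rw [Scheme.Hom.comp_apply]
      exact himem _
    · rw [Category.assoc, hip, ← Spec.map_comp, Category.assoc]
      show _ = j ≫ (πW ≫ pullback.fst p s) ≫ p
      rw [Category.assoc, pullback.condition, ← Category.assoc πW, ← Category.assoc j,
        show j ≫ πW ≫ pullback.snd p s = Spec.map (CommRingCat.ofHom (algebraMap B L)) from hjq, ← Spec.map_comp]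
      congr 1
      refine CommRingCat.hom_ext (RingHom.ext fun a => ?_)
      show algebraMap K L (algebraMap A K a) = algebraMap B L (algebraMap A B a)
      rw [← IsScalarTower.algebraMap_apply, ← IsScalarTower.algebraMap_apply]
  have hfrac : ∀ k : K, ∃ a b : Γ(Y, ⊤), TraceH1Lib.val i ⊤ le_top b ≠ 0 ∧
      k * TraceH1Lib.val i ⊤ le_top b = TraceH1Lib.val i ⊤ le_top a := fun k => by
    obtain ⟨a, b, hb, rfl⟩ := IsFractionRing.div_surjective A k
    refine ⟨Coh.toGlobal p a, Coh.toGlobal p b, ?_, ?_⟩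
    · rw [val_toGlobal p i hip]
      exact fun h => nonZeroDivisors.ne_zero hb (hAK (h.trans (map_zero _).symm))
    · rw [val_toGlobal p i hip, val_toGlobal p i hip, div_mul_cancel₀]
      exact fun h => nonZeroDivisors.ne_zero hb (hAK (h.trans (map_zero _).symm))
  exact TraceH1Lib.finrank_nsmul_eq_zero hYn π i j hij higen hfrac hH x


/-- Rationality of singularities only depends on the ring up to isomorphism. -/
theorem isRationalSing_of_ringEquiv {A A' : Type u} [CommRing A] [CommRing A'] (e : A ≃+* A')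
    (h : Curv2.IsRationalSing A) : Curv2.IsRationalSing A' := by
  intro X f hf hXi hXn hbir
  haveI := hf
  obtain ⟨U, hU, hUi⟩ := hbir
  let ε : Spec (CommRingCat.of A') ⟶ Spec (CommRingCat.of A) := Spec.map e.toCommRingCatIso.hom
  haveI : IsIso ε := inferInstanceAs (IsIso (Spec.map e.toCommRingCatIso.hom))
  refine h X (f ≫ ε) inferInstance hXi hXn ⟨(inv ε) ⁻¹ᵁ U, ?_, ?_⟩
  · obtain ⟨z, hz⟩ := hU
    refine ⟨ε z, ?_⟩
    show (inv ε) (ε z) ∈ U
    rw [← Scheme.Hom.comp_apply, IsIso.hom_inv_id]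
    exact hz
  · have e1 : ε ⁻¹ᵁ ((inv ε) ⁻¹ᵁ U) = U := by rw [← Scheme.Hom.comp_preimage, IsIso.hom_inv_id]; rfl
    haveI : IsIso (f ∣_ (ε ⁻¹ᵁ ((inv ε) ⁻¹ᵁ U))) := by rw [e1]; exact hUi
    rw [morphismRestrict_comp]
    exact inferInstanceAs (IsIso ((f ∣_ (ε ⁻¹ᵁ ((inv ε) ⁻¹ᵁ U))) ≫ (ε ∣_ ((inv ε) ⁻¹ᵁ U))))

end Groth.Agent.TraceH1Lib
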